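import Cfsg.Agent.Lib.SuzMult.Code
import Cfsg.Agent.Lib.Schur.PcCollect

/-!
# Certificates inside a group of coded `12 x 12` matrices over `ZMod 7`

Members of the group are the nodes of a checked straight-line program; a generator is outside the group of
the later ones when it moves a vector out of a set that they preserve.
-/

set_option autoImplicit false

namespace Cfsg.Agent.Lib.SuzMult.Cert

open Cfsg.Agent.Lib.SuzMult.Code
open Cfsg.Agent.Lib.Schur (Fusion.KillsPart)
open Cfsg.Agent.Lib.Schur.PcCollect (Data Equat Vec)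

/-- The ambient group. -/
abbrev GL12 : Type := GL (Fin 12) (ZMod 7)

/-- A program: generators with inverses, operations and values in chunks of sixty-four. -/
structure Prog where
  gens : List (List ℕ × List ℕ)
  size : ℕ
  ops : List (List (ℕ × ℕ × ℕ))
  vals : List (List (List ℕ))

variable (P : Prog)

/-- The value of a node. -/
def Prog.get (i : ℕ) : List ℕ := (P.vals.getD (i / 64) []).getD (i % 64) []

/-- The operation of a node. -/
def Prog.op (i : ℕ) : ℕ × ℕ × ℕ := (P.ops.getD (i / 64) []).getD (i % 64) (3, 0, 0)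

/-- The check of one node. -/
def Prog.nodeOk (i : ℕ) : Bool :=
  ok (P.get i) && match P.op i with
  | (0, g, _) => Nat.blt g P.gens.length && (P.get i == (P.gens.getD g ([], [])).1)
  | (1, a, b) => Nat.blt a i && Nat.blt b i && (P.get i == mulC (P.get a) (P.get b))
  | (2, a, _) => Nat.blt a i && (mulC (P.get a) (P.get i) == scalC 1)
  | _ => false

/-- All checks of a program. -/
def Prog.check : Bool :=
  (P.gens.all fun g => ok g.1 && ok g.2 && (mulC g.1 g.2 == scalC 1) && (mulC g.2 g.1 == scalC 1)) &&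
    (List.range P.size).all P.nodeOk

/-- An element with a given code. -/
def Has (x : GL12) (c : List ℕ) : Prop := ok c = true ∧ (x : Mat) = toMat c

theorem toMat_one : toMat (scalC 1) = 1 := by rw [toMat_scalC, Nat.cast_one, one_smul]

theorem has_one : Has 1 (scalC 1) := ⟨ok_scalC 1, by rw [toMat_one]; rfl⟩

theorem Has.mul {x y : GL12} {a b : List ℕ} (hx : Has x a) (hy : Has y b) : Has (x * y) (mulC a b) :=
  ⟨ok_mulC hx.1, by rw [Units.val_mul, hx.2, hy.2, toMat_mulC hx.1 hy.1]⟩

theorem Has.eq {x y : GL12} {a : List ℕ} (hx : Has x a) (hy : Has y a) : x = y :=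
  Units.ext (hx.2.trans hy.2.symm)

theorem Has.code_eq {x : GL12} {a b : List ℕ} (ha : Has x a) (hb : Has x b) : a = b :=
  toMat_inj ha.1 hb.1 (ha.2.symm.trans hb.2)

/-- The generators. -/
noncomputable def Prog.gen (h : P.check = true) (g : Fin P.gens.length) : GL12 where
  val := toMat (P.gens[g]).1
  inv := toMat (P.gens[g]).2
  val_inv := by
    simp only [Prog.check, Bool.and_eq_true, List.all_eq_true, beq_iff_eq] at h
    obtain ⟨⟨⟨h1, h2⟩, h3⟩, -⟩ := h.1 _ (List.getElem_mem g.2)
    exact (toMat_mulC h1 h2).symm.trans ((congrArg toMat h3).trans toMat_one)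
  inv_val := by
    simp only [Prog.check, Bool.and_eq_true, List.all_eq_true, beq_iff_eq] at h
    obtain ⟨⟨⟨h1, h2⟩, -⟩, h4⟩ := h.1 _ (List.getElem_mem g.2)
    exact (toMat_mulC h2 h1).symm.trans ((congrArg toMat h4).trans toMat_one)

/-- The group of a program. -/
noncomputable def Prog.grp (h : P.check = true) : Subgroup GL12 := Subgroup.closure (Set.range (P.gen h))

theorem gen_mem (h : P.check = true) (g : Fin P.gens.length) : P.gen h g ∈ P.grp h :=
  Subgroup.subset_closure ⟨g, rfl⟩

theorem has_gen (h : P.check = true) (g : Fin P.gens.length) : Has (P.gen h g) (P.gens[g]).1 := by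
  refine ⟨?_, rfl⟩
  simp only [Prog.check, Bool.and_eq_true, List.all_eq_true] at h
  exact (h.1 _ (List.getElem_mem g.2)).1.1.1

theorem node_spec (h : P.check = true) : ∀ i, i < P.size → ∃ x ∈ P.grp h, Has x (P.get i) := by
  intro i
  induction i using Nat.strong_induction_on with
  | _ i ih =>
    intro hi
    have hc := h
    simp only [Prog.check, Bool.and_eq_true, List.all_eq_true, List.mem_range] at hc
    have hn := hc.2 i hi
    simp only [Prog.nodeOk, Bool.and_eq_true] at hn
    obtain ⟨hok, hop⟩ := hn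
    generalize P.op i = o at hop
    match o with
    | (0, g, b) =>
      simp only [Bool.and_eq_true, Nat.blt_eq, beq_iff_eq] at hop
      obtain ⟨hg, he⟩ := hop
      rw [he, List.getD_eq_getElem _ _ hg]
      exact ⟨_, gen_mem P h ⟨g, hg⟩, has_gen P h ⟨g, hg⟩⟩
    | (1, a, b) =>
      simp only [Bool.and_eq_true, Nat.blt_eq, beq_iff_eq] at hop
      obtain ⟨⟨ha, hb⟩, he⟩ := hop
      obtain ⟨x, hx, hxa⟩ := ih a ha (ha.trans hi)
      obtain ⟨y, hy, hyb⟩ := ih b hb (hb.trans hi)
      exact ⟨x * y, mul_mem hx hy, he ▸ hxa.mul hyb⟩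
    | (2, a, b) =>
      simp only [Bool.and_eq_true, Nat.blt_eq, beq_iff_eq] at hop
      obtain ⟨x, hx, hxa⟩ := ih a hop.1 (hop.1.trans hi)
      refine ⟨x⁻¹, inv_mem hx, hok, ?_⟩
      have h1 : (x : Mat) * toMat (P.get i) = 1 := by
        rw [hxa.2, ← toMat_mulC hxa.1 hok, hop.2, toMat_one]
      exact Units.inv_eq_of_mul_eq_one_right h1
    | (n + 3, a, b) => simp at hop

/-- The code of a word in listed nodes. -/
def word (ix l : List ℕ) : List ℕ := l.foldr (fun i a => mulC (P.get (ix.getD i 0)) a) (scalC 1)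

/-- The relations hold. -/
def relsOk (D : Data) (ix : List ℕ) : Bool :=
  (ix.all fun i => Nat.blt i P.size) && Nat.blt 0 P.size &&
    (List.range D.n).all fun i => (List.range (i + 1)).all fun j =>
      word P ix (D.lhs i j) == word P ix (D.rhs i j)

/-- The conjugations hold. -/
def conjsOk (D : Data) (ix xs : List ℕ) : Bool :=
  Nat.beq xs.length D.conjs.length && (xs.all fun i => Nat.blt i P.size) &&
    (List.range D.conjs.length).all fun c =>
      let uv := D.conjs.getD c ([], [])
      let x := P.get (xs.getD c 0)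
      (List.range uv.1.length).all fun k =>
        mulC x (word P ix (uv.1.getD k [])) == mulC (word P ix (uv.2.getD k [])) x

/-- A vector is reduced. -/
def vecOk (v : List ℕ) : Bool := Nat.beq v.length 12 && v.all fun x => Nat.blt x 7

/-- Each generator moves a vector out of a set preserved by the later ones. -/
def sepOk (D : Data) (ix : List ℕ) (sep : List (List ℕ × List (List ℕ))) : Bool :=
  (List.range D.n).all fun j =>
    let d := sep.getD j ([], [])
    d.2.all vecOk && d.2.contains d.1 && !(d.2.contains (applyC (P.get (ix.getD j 0)) d.1)) &&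
      (List.range D.n).all fun l => !Nat.blt j l ||
        d.2.all fun t => d.2.contains (applyC (P.get (ix.getD l 0)) t)

theorem vecOk_spec {v : List ℕ} (h : vecOk v = true) : v.length = 12 ∧ ∀ x ∈ v, x < 7 := by
  simpa [vecOk, Nat.beq_eq, List.all_eq_true, Nat.blt_eq] using h

theorem applyC_spec {A v : List ℕ} (hA : ok A = true) :
    (applyC A v).length = 12 ∧ ∀ x ∈ applyC A v, x < 7 := by
  refine ⟨by rw [applyC, List.length_map]; exact (ok_spec hA).1, fun x hx => ?_⟩
  obtain ⟨r, -, rfl⟩ := List.mem_map.1 hx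
  exact Nat.mod_lt _ (by norm_num)

/-- Data passing the checks kills the part at its prime. -/
theorem exists_part (h : P.check = true) (D : Data) (hp : D.p.Prime) {α : Type} [BEq α] [LawfulBEq α]
    (V : Vec D.p α) {ix xs : List ℕ} {sep : List (List ℕ × List (List ℕ))} {eqs : List (Equat × α)}
    {combos : List (List ℕ)} (hcert : D.certOk V eqs combos = true) (hrels : relsOk P D ix = true)
    (hsep : sepOk P D ix sep = true) (hconjs : conjsOk P D ix xs = true)
    (hidx : ¬ D.p ^ (D.n + 1) ∣ Nat.card (P.grp h)) :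
    ∃ S : Subgroup (P.grp h), ¬ D.p ∣ S.index ∧ Fusion.KillsPart D.p S := by
  simp only [relsOk, Bool.and_eq_true, List.all_eq_true, List.mem_range, Nat.blt_eq, beq_iff_eq] at hrels
  obtain ⟨⟨hix, h0⟩, hrel0⟩ := hrels
  have hnode : ∀ i < P.size, ∃ x : P.grp h, Has x (P.get i) := fun i hi => by
    obtain ⟨x, hx, hxc⟩ := node_spec P h i hi
    exact ⟨⟨x, hx⟩, hxc⟩
  have hget : ∀ i, ix.getD i 0 < P.size := fun i => by
    by_cases hi : i < ix.length
    · rw [List.getD_eq_getElem _ _ hi]; exact hix _ (List.getElem_mem hi)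
    · rw [List.getD_eq_default _ _ (not_lt.1 hi)]; exact h0
  choose g hg using fun i => hnode _ (hget i)
  have hel : ∀ l : List ℕ, Has (Data.el g l : P.grp h) (word P ix l) := by
    intro l
    induction l with
    | nil => exact has_one
    | cons i l ih =>
      rw [Data.el_cons, Subgroup.coe_mul, word, List.foldr_cons]
      exact (hg i).mul ih
  have hrel : ∀ i < D.n, ∀ j ≤ i, Data.el g (D.lhs i j) = Data.el g (D.rhs i j) := fun i hi j hj =>
    Subtype.ext ((hel _).eq ((hrel0 i hi j (by omega)) ▸ hel _))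
  have hW : ∀ i < D.n, ∀ j ≤ i, ∀ l ∈ D.word i j, j < l ∧ l < D.n := by
    intro i hi j hj l hl
    have hc := hcert
    simp only [Data.certOk, Bool.and_eq_true, List.all_eq_true, List.mem_range, Nat.blt_eq] at hc
    exact hc.1.1 i hi j (by omega) l hl
  have hstrict : ∀ j < D.n, g j ∉ Subgroup.closure (g '' {l | j < l ∧ l < D.n}) := by
    intro j hj hmem
    simp only [sepOk, List.all_eq_true, List.mem_range, Bool.and_eq_true, Bool.or_eq_true,
      Bool.not_eq_true', List.contains_iff_mem] at hsep
    obtain ⟨⟨⟨hv, hin⟩, hout⟩, hinv⟩ := hsep j hj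
    generalize sep.getD j ([], []) = d at hv hin hout hinv
    have hQ : ∀ x ∈ Subgroup.closure (g '' {l | j < l ∧ l < D.n}), ∀ t ∈ d.2,
        ∃ u ∈ d.2, ((x : GL12) : Mat).mulVec (toVec t) = toVec u := by
      intro x hx
      rw [← Subgroup.mem_toSubmonoid, Subgroup.closure_toSubmonoid_of_finite] at hx
      induction hx using Submonoid.closure_induction with
      | mem y hy =>
        obtain ⟨l, ⟨hjl, hl⟩, rfl⟩ := hy
        intro t ht
        refine ⟨_, (hinv l hl).resolve_left (fun hn => ?_) t ht, ?_⟩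
        · rw [Bool.eq_false_iff, ne_eq, Nat.blt_eq] at hn; exact hn hjl
        · rw [(hg l).2, toVec_applyC (hg l).1]
      | one => intro t ht; exact ⟨t, ht, by simp⟩
      | mul a b _ _ ha hb =>
        intro t ht
        obtain ⟨u, hu, he⟩ := hb t ht
        obtain ⟨w, hw, he'⟩ := ha u hu
        exact ⟨w, hw, by rw [Subgroup.coe_mul, Units.val_mul, ← Matrix.mulVec_mulVec, he, he']⟩
    obtain ⟨u, hu, he⟩ := hQ _ hmem d.1 hin
    rw [(hg j).2, ← toVec_applyC (hg j).1] at he
    have e : applyC (P.get (ix.getD j 0)) d.1 = u :=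
      toVec_inj (applyC_spec (hg j).1).1 (vecOk_spec (hv u hu)).1 (applyC_spec (hg j).1).2
        (vecOk_spec (hv u hu)).2 he
    have hmem' : d.2.contains (applyC (P.get (ix.getD j 0)) d.1) = true := by
      rw [List.contains_iff_mem, e]; exact hu
    exact Bool.false_ne_true (hout.symm.trans hmem')
  refine ⟨Subgroup.closure (g '' {l | l < D.n}), fun hd => hidx ?_,
    Cfsg.Agent.Lib.Schur.PcCollect.killsPart_of_cert _ D hp V g hcert hrel hstrict ?_ hidx⟩
  · rw [← (Subgroup.closure (g '' {l | l < D.n})).card_mul_index,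
      Cfsg.Agent.Lib.Schur.PcCollect.card_series D hp g hW hrel hstrict, pow_succ]
    exact Nat.mul_dvd_mul_left _ hd
  · intro uv huv
    obtain ⟨c, hcl, rfl⟩ := List.getElem_of_mem huv
    simp only [conjsOk, Bool.and_eq_true, Nat.beq_eq, List.all_eq_true, List.mem_range, beq_iff_eq,
      Nat.blt_eq] at hconjs
    obtain ⟨⟨hlen, hxg⟩, hall⟩ := hconjs
    obtain ⟨y, hy⟩ := hnode (xs.getD c 0) (by
      rw [List.getD_eq_getElem _ _ (hlen.symm ▸ hcl)]
      exact hxg _ (List.getElem_mem _))
    refine ⟨y, fun k hk => ?_⟩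
    have hh := hall c hcl k (by rwa [List.getD_eq_getElem _ _ hcl])
    rw [List.getD_eq_getElem _ _ hcl] at hh
    rw [mul_inv_eq_iff_eq_mul]
    exact Subtype.ext ((hy.mul (hel _)).eq (hh ▸ (hel _).mul hy))

/-- A node of prime order. -/
def primeOk (i q : ℕ) : Bool :=
  Nat.blt i P.size && ((List.replicate q i).foldr (fun i a => mulC (P.get i) a) (scalC 1) == scalC 1) &&
    !(P.get i == scalC 1)

/-- The part at a prime dividing the order only once. -/
theorem exists_cyclic (h : P.check = true) {i q : ℕ} (hq : q.Prime) (hi : primeOk P i q = true)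
    (hidx : ¬ q ^ 2 ∣ Nat.card (P.grp h)) :
    ∃ S : Subgroup (P.grp h), ¬ q ∣ S.index ∧ Fusion.KillsPart q S := by
  simp only [primeOk, Bool.and_eq_true, Nat.blt_eq, beq_iff_eq, Bool.not_eq_true', beq_eq_false_iff_ne] at hi
  obtain ⟨⟨hlt, hpow⟩, hne⟩ := hi
  obtain ⟨x, hx, hc⟩ := node_spec P h i hlt
  have hp : ∀ k : ℕ, Has (x ^ k) ((List.replicate k i).foldr (fun i a => mulC (P.get i) a) (scalC 1)) := by
    intro k
    induction k with
    | zero => rw [pow_zero]; exact has_one
    | succ k ih => rw [pow_succ', List.replicate_succ, List.foldr_cons]; exact hc.mul ih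
  have := Fact.mk hq
  have ho : orderOf (⟨x, hx⟩ : P.grp h) = q := by
    refine orderOf_eq_prime (Subtype.ext ?_) fun e => hne ?_
    · rw [Subgroup.coe_pow, Subgroup.coe_one]
      refine (hp q).eq ?_
      rw [hpow]
      exact has_one
    · have e' : x = 1 := congrArg Subtype.val e
      exact hc.code_eq (by rw [e']; exact has_one)
  refine ⟨Subgroup.zpowers ⟨x, hx⟩, fun hd => hidx ?_, Cfsg.Agent.Lib.Schur.Fusion.killsPart_zpowers q _⟩
  rw [← (Subgroup.zpowers (⟨x, hx⟩ : P.grp h)).card_mul_index, Nat.card_zpowers, ho, pow_two]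
  exact Nat.mul_dvd_mul_left q hd

end Cfsg.Agent.Lib.SuzMult.Cert
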