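import Cfsg.Agent.Lib.SuzMult.ProgData

/-!
The certificate at 5 (generated data).
-/

set_option autoImplicit false
set_option Elab.async false
set_option maxRecDepth 20000

namespace Cfsg.Agent.Lib.SuzMult

open Cfsg.Agent.Lib.Schur.PcCollect (Data Equat)

/-- The presentation. -/
def five : Data where
  p := 5
  n := 2
  fuel := 395
  W := [[], [1], []]
  phi := [[], []]
  conjs := [([[1], [0]], [[0, 0, 0, 0, 1, 1, 1], [0, 0, 1, 1, 1]]),
    ([[1], [0]], [[1, 1, 1, 1], [0, 0, 0, 0]])]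

/-- The equations. -/
def fiveEqs : List (Equat × List ℕ) := [
  (.conj 0 [([0, 0, 0, 0, 0], [])], [4, 0, 2]),
  (.conj 0 [([1, 0], [0, 1])], [0, 2, 0]),
  (.conj 1 [([0, 0, 0, 0, 0], [])], [0, 0, 3])]

/-- The combinations. -/
def fiveCombos : List (List ℕ) := [[0, 2], [1, 1], [2, 2, 2]]

/-- The nodes of the generators. -/
def fiveIx : List ℕ := [987, 1001]

/-- The nodes of the conjugators. -/
def fiveXs : List ℕ := [1013, 1026]

/-- The invariant sets of vectors. -/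
def fiveSep : List (List ℕ × List (List ℕ)) := [
  ([0, 0, 0, 6, 1, 0, 0, 0, 0, 0, 0, 0], [[0, 0, 0, 6, 1, 0, 0, 0, 0, 0, 0, 0]]),
  ([1, 0, 0, 0, 0, 0, 0, 0, 0, 0, 0, 0], [[1, 0, 0, 0, 0, 0, 0, 0, 0, 0, 0, 0]])]

end Cfsg.Agent.Lib.SuzMult
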