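import Cfsg.Agent.Lib.SuzMult.ProgData

/-!
The certificate at 3 (generated data).
-/

set_option autoImplicit false
set_option Elab.async false
set_option maxRecDepth 20000

namespace Cfsg.Agent.Lib.SuzMult

open Cfsg.Agent.Lib.Schur.PcCollect (Data Equat)

/-- The presentation. -/
def three : Data where
  p := 3
  n := 8
  fuel := 2825
  W := [[], [1, 2, 2, 5, 7], [5, 7], [2], [2, 5, 7], [], [3, 4, 5, 5, 6, 6, 7], [3, 4, 5, 5, 6, 6, 7], [3, 6, 6], [], [4], [4, 6, 6], [4], [4, 5, 5, 6, 6], [], [5], [5], [5], [5], [5], [], [6], [6], [6], [6], [6], [6], [], [7], [7], [7], [7], [7], [7], [7], []]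
  phi := [[], [], [1, 1, 2], [], [6, 2, 2, 8, 13], [8, 13, 13], [8, 8], [2, 8, 8, 13]]
  conjs := [([[0, 1, 1, 2, 2, 5, 5, 7, 7], [3, 3, 4], [6], [7]], [[3, 3, 4, 4, 5, 5, 6, 7, 7], [0, 1, 1, 2, 5], [6], [7]]),
    ([[0, 2, 5, 5, 7], [6], [7]], [[0, 2, 4, 5, 5, 6, 6, 7, 7], [6, 6, 7], [7]]),
    ([[0, 0, 1], [4], [3], [2], [6], [5], [7]], [[2, 2, 4, 6, 6, 7], [0, 1, 1, 2, 2, 3, 4, 4, 5, 5, 6, 6], [0, 0, 1, 2, 3, 3, 5, 5, 6, 6, 7], [0, 0, 1, 2, 2, 3, 4, 4, 6, 6, 7], [6, 6, 7], [5, 5], [7]]),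
    ([[0, 4, 4, 5, 7], [6], [7]], [[0, 0, 2, 4, 4, 5, 6, 7], [6], [7]]),
    ([[2, 4, 7, 7], [0, 5, 7], [0, 2, 7], [6], [7]], [[0, 1, 1, 2, 2, 3, 3, 4, 5, 6, 6], [0, 1, 1, 2, 2, 5, 5, 7, 7], [0, 0, 1, 2, 2, 5, 6, 6, 7, 7], [6], [7]])]

/-- The equations. -/
def threeEqs : List (Equat × List ℕ) := [
  (.overlap [] 1 1 [0], [0, 0, 0, 0, 0, 2, 0, 0, 0, 0, 0, 0, 0, 0, 0, 2, 2, 2, 0, 0, 0, 0, 0, 0, 0, 0, 0, 0, 2, 2, 2, 0, 0, 0, 0, 0]),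
  (.overlap [] 1 1 [1], [0, 0, 0, 0, 0, 0, 0, 0, 0, 0, 0, 0, 0, 0, 0, 0, 2, 0, 0, 0, 0, 0, 0, 0, 0, 0, 0, 0, 0, 2]),
  (.overlap [] 2 1 [0], [0, 0, 0, 0, 0, 0, 0, 0, 0, 0, 0, 0, 0, 0, 0, 2, 0, 1, 0, 0, 0, 0, 0, 0, 0, 0, 0, 0, 2, 0, 1, 0, 0, 0]),
  (.overlap [] 2 2 [1], [0, 0, 0, 0, 0, 0, 0, 0, 0, 0, 0, 0, 0, 0, 0, 0, 0, 0, 0, 0, 1, 0, 0, 0, 0, 0, 0, 0, 0, 0, 0, 0, 0, 0, 0, 1]),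
  (.overlap [] 3 1 [0], [0, 0, 0, 0, 0, 0, 0, 0, 2, 0, 2, 1, 1, 0, 0, 1, 2, 2, 2, 1, 0, 1, 2, 2, 0, 2, 0, 2, 2, 1, 1, 2, 1, 1, 1, 0]),
  (.overlap [] 3 2 [0], [0, 0, 0, 0, 0, 0, 0, 0, 0, 0, 0, 0, 1, 0, 0, 0, 0, 2, 0, 0, 0, 1, 0, 2, 0, 2, 1, 0, 0, 0, 1, 0, 0, 0, 1]),
  (.overlap [] 3 2 [1], [0, 0, 0, 0, 0, 0, 0, 0, 0, 0, 0, 0, 1, 0, 0, 0, 0, 2, 2, 2, 0, 0, 1, 2, 0, 2, 2, 0, 0, 0, 1, 2, 2, 2, 0]),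
  (.overlap [] 3 3 [0], [0, 0, 0, 0, 0, 0, 0, 0, 0, 0, 0, 0, 0, 0, 1, 0, 0, 0, 2, 1, 1, 0, 0, 0, 2, 1, 0, 1, 0, 0, 0, 0, 0, 2, 2, 1]),
  (.overlap [] 3 3 [2], [0, 0, 0, 0, 0, 0, 0, 0, 0, 0, 0, 0, 0, 0, 0, 0, 0, 0, 0, 0, 0, 0, 0, 0, 0, 0, 0, 2]),
  (.overlap [] 4 1 [0], [0, 0, 0, 0, 0, 0, 0, 0, 0, 0, 0, 0, 2, 0, 0, 0, 0, 0, 0, 2, 0, 1, 0, 1, 0, 0, 2, 0, 0, 0, 0, 0, 2, 0, 1]),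
  (.overlap [] 4 2 [1], [0, 0, 0, 0, 0, 0, 0, 0, 0, 0, 0, 0, 0, 0, 0, 0, 0, 0, 0, 2, 0, 0, 0, 2, 0, 0, 2, 0, 0, 0, 0, 0, 2, 0, 1]),
  (.overlap [] 4 3 [0], [0, 0, 0, 0, 0, 0, 0, 0, 0, 0, 0, 0, 0, 0, 0, 1, 0, 0, 0, 0, 0, 1, 0, 0, 0, 0, 0, 0, 0, 0, 0, 0, 2, 1, 1]),
  (.overlap [] 4 3 [1], [0, 0, 0, 0, 0, 0, 0, 0, 0, 0, 0, 0, 0, 0, 0, 0, 1, 0, 0, 0, 0, 0, 1, 0, 2, 2, 0, 0, 0, 0, 0, 0, 2, 1, 2]),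
  (.overlap [] 4 3 [2], [0, 0, 0, 0, 0, 0, 0, 0, 0, 0, 0, 0, 0, 0, 0, 0, 0, 1, 0, 0, 0, 0, 0, 1, 0, 1, 2, 0]),
  (.overlap [] 4 4 [3], [0, 0, 0, 0, 0, 0, 0, 0, 0, 0, 0, 0, 0, 0, 0, 0, 0, 0, 0, 0, 2, 0, 0, 0, 0, 0, 0, 2]),
  (.overlap [] 5 1 [0], [0, 0, 0, 0, 0, 0, 0, 0, 0, 0, 0, 0, 0, 0, 0, 0, 0, 2, 0, 0, 0, 0, 0, 0, 0, 0, 0, 0, 0, 0, 0, 0, 0, 2]),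
  (.overlap [] 5 2 [1], [0, 0, 0, 0, 0, 0, 0, 0, 0, 0, 0, 0, 0, 0, 0, 0, 0, 0, 0, 0, 0, 0, 0, 0, 0, 0, 0, 0, 0, 0, 0, 0, 0, 2]),
  (.overlap [] 5 3 [0], [0, 0, 0, 0, 0, 0, 0, 0, 0, 0, 0, 0, 0, 0, 0, 0, 0, 0, 0, 1, 0, 0, 0, 0, 0, 0, 1, 0, 0, 0, 0, 0, 0, 2]),
  (.overlap [] 5 3 [2], [0, 0, 0, 0, 0, 0, 0, 0, 0, 0, 0, 0, 0, 0, 0, 0, 0, 0, 0, 0, 0, 0, 0, 0, 0, 0, 1]),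
  (.overlap [] 6 1 [0], [0, 0, 0, 0, 0, 0, 0, 0, 0, 0, 0, 0, 0, 0, 0, 0, 0, 0, 0, 0, 0, 0, 0, 2, 0, 0, 1, 0, 0, 0, 0, 0, 0, 0, 2]),
  (.overlap [] 6 2 [1], [0, 0, 0, 0, 0, 0, 0, 0, 0, 0, 0, 0, 0, 0, 0, 0, 0, 0, 0, 0, 0, 0, 0, 0, 0, 0, 1, 0, 0, 0, 0, 0, 0, 0, 2]),
  (.overlap [] 7 1 [0], [0, 0, 0, 0, 0, 0, 0, 0, 0, 0, 0, 0, 0, 0, 0, 0, 0, 0, 0, 0, 0, 0, 0, 0, 0, 0, 0, 0, 0, 0, 2, 0, 0, 1]),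
  (.conj 0 [([0, 0, 0], [])], [2, 0, 1, 2, 2, 0, 0, 0, 0, 2, 0, 0, 0, 0, 2, 1, 2, 0, 1, 2, 0, 0, 0, 0, 1, 2, 1, 2, 1, 2, 0, 0, 0, 1, 1, 2]),
  (.conj 0 [([1, 0], [0, 1])], [0, 0, 0, 0, 0, 0, 2, 1, 0, 0, 0, 0, 2, 0, 2, 1, 2, 1, 0, 1, 0, 2, 2, 0, 0, 2, 2, 2, 1, 2, 1, 1, 2, 1, 2, 2]),
  (.conj 0 [([2, 0], [0, 2])], [0, 0, 0, 0, 0, 0, 0, 0, 0, 0, 0, 0, 0, 0, 0, 0, 0, 0, 0, 0, 0, 2, 1, 1, 2, 2, 0, 0, 0, 0, 0, 0, 0, 0, 0]),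
  (.conj 0 [([3, 0], [0, 3])], [0, 0, 0, 0, 0, 0, 0, 0, 0, 0, 0, 0, 0, 0, 0, 0, 0, 0, 0, 0, 0, 0, 0, 0, 0, 0, 0, 0, 2, 1, 1, 2, 2, 0, 1, 0]),
  (.conj 1 [([0, 0, 0], [])], [0, 0, 0, 0, 0, 0, 0, 0, 0, 0, 0, 0, 0, 0, 1, 0, 0, 0, 0, 0, 0, 0, 0, 0, 0, 0, 0, 2, 0, 0, 0, 0, 0, 0, 0, 1]),
  (.conj 2 [([0, 0, 0], [])], [1, 0, 2, 1, 1, 0, 0, 0, 0, 0, 0, 0, 0, 0, 1, 2, 0, 0, 0, 0, 2, 0, 0, 0, 0, 0, 0, 2, 2, 0, 0, 0, 0, 0, 0, 0]),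
  (.conj 3 [([0, 0, 0], [])], [1, 0, 0, 0, 0, 1, 0, 0, 0, 0, 0, 0, 0, 0, 0, 0, 0, 0, 0, 0, 0, 0, 0, 0, 0, 0, 0, 1, 0, 0, 0, 0, 0, 0, 0, 0]),
  (.conj 4 [([1, 0], [0, 1])], [0, 0, 0, 1, 0, 0, 1, 2, 2, 0, 0, 1, 1, 0, 1, 1, 2, 1, 1, 1, 0, 1, 2, 2, 2, 0, 2, 1, 1, 1, 0, 1, 1, 1, 2, 1]),
  (.conj 4 [([2, 1], [1, 2])], [0, 0, 0, 2, 0, 1, 0, 0, 0, 0, 0, 0, 0, 0, 0, 2, 2, 2, 0, 0, 0, 2, 1, 1, 0, 0, 1, 0, 2, 1, 1, 0, 0, 1, 2, 0])]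

/-- The combinations. -/
def threeCombos : List (List ℕ) := [[0, 0, 1, 2, 8, 8, 15, 15, 21, 21, 28, 28], [], [], [0, 1, 1, 2, 2, 5, 6, 7, 7, 8, 8, 9, 9, 10, 10, 11, 12, 13, 14, 14, 15, 15, 16, 20, 25, 25, 26, 30], [2, 3, 3, 5, 5, 6, 6, 7, 8, 8, 9, 10, 11, 11, 12, 12, 13, 13, 14, 16, 16, 20, 20, 21, 21, 25, 27, 27, 28, 30, 30], [0, 1, 1, 2, 2, 15, 21], [], [1, 1, 2, 5, 5, 6, 7, 7, 8, 9, 10, 11, 11, 12, 13, 14, 14, 15, 17, 17, 19, 20, 21, 23, 23, 25], [], [1, 1, 3, 7, 8, 8, 14, 18, 18, 22, 26, 26, 27], [0, 0, 1, 2, 2, 4, 5, 5, 7, 10, 10, 11, 12, 13, 14, 16, 17, 17, 19, 21, 23, 23, 24, 24, 26, 26, 29, 29, 30, 30], [0, 0, 1, 2, 2, 5, 7, 7, 8, 8, 9, 10, 10, 11, 11, 14, 14, 15, 16, 16, 18, 18,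 20, 20, 23, 23, 24, 24, 25, 26, 29, 29, 30, 30], [5, 9, 9, 10, 13, 16, 18, 18, 19, 21], [], [3, 14, 26, 26], [5, 5, 9, 9, 10, 10, 11, 11, 13, 13, 17, 18, 20, 20, 21, 21], [5, 5, 9, 9, 10, 10, 12, 12, 13, 13, 17, 18, 18, 19, 21, 21, 24], [15, 16, 16], [1, 2, 2, 5, 6, 6, 7, 7, 8, 8, 11, 11, 12, 13, 13, 14, 14, 15, 16, 18, 18, 19, 19, 20, 20, 25, 26], [16, 17, 17, 18], [8, 8, 14], [5, 9, 10, 10, 13, 16, 18, 18, 19, 19, 20, 20, 21], [1, 1, 2, 6, 7, 7, 8, 8, 9, 10, 10, 11, 12, 12, 14, 14, 16, 16, 17, 17, 20, 20, 21, 24, 24, 25, 25, 26], [19, 20, 20], [1, 1, 2, 5, 5, 6, 7, 7, 8, 8, 11, 12, 12, 14, 14, 15, 17, 17, 18, 18, 20, 25, 25, 26], [13, 13, 15, 15, 16, 18, 18, 19, 19, 20], [18, 18], [8],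 [2, 5, 9, 10, 11, 13, 15, 17, 17, 18, 18, 20, 21, 21], [1, 5, 9, 10, 12, 13, 17, 17, 18, 19, 19, 21, 24, 24], [16, 21], [1, 2, 2, 10, 10, 11, 11, 12, 15, 15, 16, 16, 17, 17, 18, 18, 20, 24, 24, 25], [10, 16, 16, 17, 18, 18, 19, 19, 20, 20], [16], [18, 18, 20], [3, 3, 8, 14, 14]]

/-- The nodes of the generators. -/
def threeIx : List ℕ := [810, 826, 840, 854, 872, 892, 894, 464]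

/-- The nodes of the conjugators. -/
def threeXs : List ℕ := [909, 926, 946, 962, 975]

/-- The invariant sets of vectors. -/
def threeSep : List (List ℕ × List (List ℕ)) := [
  ([5, 4, 5, 4, 4, 2, 4, 6, 3, 5, 3, 0], [[5, 4, 5, 4, 4, 2, 4, 6, 3, 5, 3, 0], [4, 4, 4, 1, 1, 2, 5, 2, 0, 6, 1, 3], [6, 0, 6, 4, 4, 0, 1, 3, 4, 1, 5, 3], [6, 2, 6, 2, 2, 1, 2, 3, 5, 6, 5, 0], [3, 1, 3, 1, 1, 4, 1, 5, 6, 3, 6, 0], [5, 2, 5, 3, 1, 0, 0, 6, 4, 3, 3, 2], [2, 3, 2, 4, 0, 3, 4, 1, 1, 1, 4, 5], [2, 2, 2, 4, 4, 1, 6, 1, 0, 3, 4, 5], [1, 1, 1, 2, 2, 4, 3, 4, 0, 5, 2, 6], [1, 5, 1, 2, 0, 5, 2, 4, 4, 4, 2, 6], [3, 3, 3, 0, 3, 3, 3, 5, 4, 0, 6, 2], [3, 0, 3, 2, 2, 0, 4, 5, 2, 4, 6, 5], [5, 0, 5, 1, 1, 0, 2,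 6, 1, 2, 3, 6], [6, 3, 6, 6, 0, 2, 4, 3, 1, 0, 5, 6], [6, 1, 6, 5, 4, 0, 0, 3, 2, 5, 5, 1], [3, 4, 3, 6, 2, 0, 0, 5, 1, 6, 6, 4], [3, 5, 3, 3, 0, 1, 2, 5, 4, 0, 6, 3], [1, 0, 1, 4, 0, 5, 0, 4, 0, 5, 2, 2], [4, 6, 4, 1, 0, 6, 1, 2, 2, 2, 1, 3], [5, 6, 5, 5, 0, 4, 1, 6, 2, 0, 3, 5], [4, 0, 4, 2, 0, 6, 0, 2, 0, 6, 1, 1], [2, 0, 2, 1, 0, 3, 0, 1, 0, 3, 4, 4], [5, 5, 5, 0, 5, 5, 5, 6, 2, 0, 3, 1], [6, 6, 6, 0, 6, 6, 6, 3, 1, 0, 5, 4], [3, 2, 3, 1, 4, 6, 6, 5, 0, 1, 6, 0], [5, 1, 5, 4, 2, 3, 3, 6, 0, 4, 3, 0], [6, 4, 6, 2, 1, 5, 5, 3, 0, 2, 5, 0]]),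
  ([4, 1, 4, 6, 5, 0, 2, 2, 3, 0, 1, 0], [[4, 1, 4, 6, 5, 0, 2, 2, 3, 0, 1, 0], [2, 4, 2, 3, 6, 0, 1, 1, 5, 0, 4, 0], [1, 2, 1, 5, 3, 0, 4, 4, 6, 0, 2, 0]]),
  ([0, 3, 0, 0, 2, 6, 1, 0, 3, 1, 0, 0], [[0, 3, 0, 0, 2, 6, 1, 0, 3, 1, 0, 0], [0, 5, 0, 0, 1, 3, 4, 0, 5, 4, 0, 0], [0, 6, 0, 0, 4, 5, 2, 0, 6, 2, 0, 0]]),
  ([1, 0, 0, 5, 3, 1, 0, 0, 3, 2, 0, 1], [[1, 0, 0, 5, 3, 1, 0, 0, 3, 2, 0, 1], [4, 0, 0, 6, 5, 4, 0, 0, 5, 1, 0, 4], [2, 0, 0, 3, 6, 2, 0, 0, 6, 4, 0, 2]]),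
  ([5, 5, 3, 2, 2, 6, 3, 5, 1, 0, 1, 0], [[5, 5, 3, 2, 2, 6, 3, 5, 1, 0, 1, 0], [6, 6, 5, 1, 1, 3, 5, 6, 4, 0, 4, 0], [3, 3, 6, 4, 4, 5, 6, 3, 2, 0, 2, 0]]),
  ([1, 2, 0, 2, 4, 4, 0, 0, 0, 1, 0, 0], [[1, 2, 0, 2, 4, 4, 0, 0, 0, 1, 0, 0], [2, 4, 0, 4, 1, 1, 0, 0, 0, 2, 0, 0], [4, 1, 0, 1, 2, 2, 0, 0, 0, 4, 0, 0]]),
  ([1, 0, 0, 0, 0, 0, 0, 0, 0, 0, 0, 0], [[1, 0, 0, 0, 0, 0, 0, 0, 0, 0, 0, 0], [2, 0, 0, 0, 0, 0, 0, 0, 0, 0, 0, 0], [4, 0, 0, 0, 0, 0, 0, 0, 0, 0, 0, 0]]),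
  ([1, 0, 0, 0, 0, 0, 0, 0, 0, 0, 0, 0], [[1, 0, 0, 0, 0, 0, 0, 0, 0, 0, 0, 0]])]

end Cfsg.Agent.Lib.SuzMult
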