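import Cfsg.Agent.Lib.SuzMult.TwoData
import Cfsg.Agent.Lib.SuzMult.ThreeData
import Cfsg.Agent.Lib.SuzMult.FiveData

/-!
# Checks of the certificates for `6.Suz`
-/

set_option autoImplicit false
set_option Elab.async false
set_option maxRecDepth 20000

namespace Cfsg.Agent.Lib.SuzMult

open Cfsg.Agent.Lib.Schur.PcCollect (maskVec listVec)

theorem prog_ok : prog.check = true := by decide +kernel
theorem two_cert : two.certOk maskVec twoEqs twoCombos = true := by decide +kernel
theorem two_rels : Cert.relsOk prog two twoIx = true := by decide +kernel
theorem two_sep : Cert.sepOk prog two twoIx twoSep = true := by decide +kernel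
theorem two_conjs : Cert.conjsOk prog two twoIx twoXs = true := by decide +kernel
theorem three_cert : three.certOk (listVec 3) threeEqs threeCombos = true := by decide +kernel
theorem three_rels : Cert.relsOk prog three threeIx = true := by decide +kernel
theorem three_sep : Cert.sepOk prog three threeIx threeSep = true := by decide +kernel
theorem three_conjs : Cert.conjsOk prog three threeIx threeXs = true := by decide +kernel
theorem five_cert : five.certOk (listVec 5) fiveEqs fiveCombos = true := by decide +kernel
theorem five_rels : Cert.relsOk prog five fiveIx = true := by decide +kernel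
theorem five_sep : Cert.sepOk prog five fiveIx fiveSep = true := by decide +kernel
theorem five_conjs : Cert.conjsOk prog five fiveIx fiveXs = true := by decide +kernel
theorem seven_ok : Cert.primeOk prog (cycIx.getD 0 0) 7 = true := by decide +kernel
theorem eleven_ok : Cert.primeOk prog (cycIx.getD 1 0) 11 = true := by decide +kernel
theorem thirteen_ok : Cert.primeOk prog (cycIx.getD 2 0) 13 = true := by decide +kernel

end Cfsg.Agent.Lib.SuzMult
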