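import Cfsg.Agent.Lib.Computation.PermCode
import Mathlib

/-!
# A code for `12 x 12` matrices over `ZMod 7`

A matrix is the list of its rows, a row is packed in lanes of ten bits with entries below seven.
A product takes twelve big multiplications and one reduction for each row.
-/

set_option autoImplicit false

namespace Cfsg.Agent.Lib.SuzMult.Code

open Cfsg.Agent.Lib.Computation

/-- The matrices. -/
abbrev Mat : Type := Matrix (Fin 12) (Fin 12) (ZMod 7)

/-- Reduction of the entries of a row. -/
def reduce (v : ℕ) : ℕ := packW 10 (fun j => Nat.mod (getW 10 v j) 7) 12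

/-- The combination of the rows of a matrix by the entries of a row, from position `k` on. -/
def accum (r : ℕ) : List ℕ → ℕ → ℕ
  | [], _ => 0
  | b :: bs, k => getW 10 r k * b + accum r bs (k + 1)

/-- Row times matrix. -/
def mulRow (r : ℕ) (B : List ℕ) : ℕ := forceNat (accum r B 0) reduce

/-- Matrix product. -/
def mulC (A B : List ℕ) : List ℕ := A.map fun r => mulRow r B

/-- The reduced matrices. -/
def ok (A : List ℕ) : Bool := Nat.beq A.length 12 && A.all fun r => Nat.beq (reduce r) r

/-- The matrix of a code. -/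
def toMat (A : List ℕ) : Mat := fun i j => (getW 10 (A.getD i 0) j : ZMod 7)

/-- The scalar matrices. -/
def scalC (c : ℕ) : List ℕ :=
  (List.range 12).map fun i => packW 10 (fun j => if Nat.beq i j then c % 7 else 0) 12

/-- Matrix times column vector. -/
def applyC (A v : List ℕ) : List ℕ :=
  A.map fun r => ((List.range 12).map fun j => getW 10 r j * v.getD j 0).sum % 7

/-- The vector of a list. -/
def toVec (v : List ℕ) : Fin 12 → ZMod 7 := fun j => (v.getD j 0 : ZMod 7)

theorem packW_lin (c : ℕ) (f g : ℕ → ℕ) : ∀ n : ℕ,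
    c * packW 10 f n + packW 10 g n = packW 10 (fun j => c * f j + g j) n
  | 0 => by simp [packW]
  | n + 1 => by
    rw [packW_succ, packW_succ, packW_succ, ← packW_lin c f g n]
    ring

theorem packW_zero : ∀ n : ℕ, packW 10 (fun _ => 0) n = 0
  | 0 => rfl
  | n + 1 => by rw [packW_succ, packW_zero n]; simp

theorem packW_congr (f g : ℕ → ℕ) : ∀ n : ℕ, (∀ j < n, f j = g j) → packW 10 f n = packW 10 g n
  | 0, _ => rfl
  | n + 1, h => by
    rw [packW_succ, packW_succ, packW_congr f g n fun j hj => h j (by omega), h n (by omega)]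

theorem reduce_lt (v j : ℕ) : Nat.mod (getW 10 v j) 7 < 7 := Nat.mod_lt _ (by norm_num)

theorem getW_reduce (v : ℕ) {j : ℕ} (hj : j < 12) : getW 10 (reduce v) j = getW 10 v j % 7 := by
  rw [reduce, getW_packW (fun x _ => lt_trans (reduce_lt v x) (by norm_num)) hj]
  rfl

theorem getW_lt {r : ℕ} (h : reduce r = r) {j : ℕ} (hj : j < 12) : getW 10 r j < 7 := by
  rw [← h, getW_reduce r hj]
  exact Nat.mod_lt _ (by norm_num)

theorem eq_packW {b : ℕ} (h : reduce b = b) : b = packW 10 (fun j => getW 10 b j % 7) 12 :=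
  h.symm.trans rfl

/-- The digits of a combination. -/
def comb (r : ℕ) : List ℕ → ℕ → ℕ → ℕ
  | [], _, _ => 0
  | b :: bs, k, j => getW 10 r k * (getW 10 b j % 7) + comb r bs (k + 1) j

theorem accum_eq (r : ℕ) : ∀ (B : List ℕ) (k : ℕ), (∀ b ∈ B, reduce b = b) →
    accum r B k = packW 10 (comb r B k) 12
  | [], k, _ => (packW_zero 12).symm
  | b :: bs, k, h => by
    rw [accum, accum_eq r bs (k + 1) fun x hx => h x (List.mem_cons_of_mem _ hx)]
    conv_lhs => rw [eq_packW (h b List.mem_cons_self)]
    rw [packW_lin]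
    rfl

theorem comb_le {r : ℕ} (hr : reduce r = r) : ∀ (B : List ℕ) (k j : ℕ), k + B.length ≤ 12 →
    comb r B k j ≤ 36 * B.length
  | [], k, j, _ => le_refl 0
  | b :: bs, k, j, h => by
    have h1 := comb_le hr bs (k + 1) j (by simp only [List.length_cons] at h; omega)
    have h2 : getW 10 r k ≤ 6 := by
      have := getW_lt hr (j := k) (by simp only [List.length_cons] at h; omega)
      omega
    have h3 : getW 10 b j % 7 ≤ 6 := by have := Nat.mod_lt (getW 10 b j) (show 7 > 0 by norm_num); omega
    have h4 := Nat.mul_le_mul h2 h3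
    simp only [comb, List.length_cons]
    omega

theorem comb_cast (r : ℕ) : ∀ (B : List ℕ) (k j : ℕ), (comb r B k j : ZMod 7) =
    ∑ i ∈ Finset.range B.length, (getW 10 r (k + i) : ZMod 7) * (getW 10 (B.getD i 0) j : ZMod 7)
  | [], k, j => by simp [comb]
  | b :: bs, k, j => by
    rw [comb, List.length_cons, Finset.sum_range_succ', Nat.cast_add, comb_cast r bs (k + 1) j,
      Nat.cast_mul, ZMod.natCast_mod, add_comm]
    simp [Nat.add_assoc, Nat.add_comm 1]

theorem ok_spec {A : List ℕ} (h : ok A = true) : A.length = 12 ∧ ∀ r ∈ A, reduce r = r := by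
  simpa [ok, Nat.beq_eq, List.all_eq_true] using h

theorem reduce_reduce (v : ℕ) : reduce (reduce v) = reduce v := by
  refine packW_congr _ _ 12 fun j hj => ?_
  show getW 10 (reduce v) j % 7 = getW 10 v j % 7
  rw [getW_reduce v hj, Nat.mod_mod]

theorem ok_mulC {A B : List ℕ} (hA : ok A = true) : ok (mulC A B) = true := by
  simp only [ok, mulC, List.length_map, Bool.and_eq_true, List.all_eq_true, List.mem_map,
    forall_exists_index, and_imp, forall_apply_eq_imp_iff₂, Nat.beq_eq]
  exact ⟨(ok_spec hA).1, fun r _ => by rw [mulRow, forceNat_eq, reduce_reduce]⟩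

theorem toMat_mulC {A B : List ℕ} (hA : ok A = true) (hB : ok B = true) :
    toMat (mulC A B) = toMat A * toMat B := by
  obtain ⟨hla, ha⟩ := ok_spec hA
  obtain ⟨hlb, hb⟩ := ok_spec hB
  ext i j
  have hi : (i : ℕ) < A.length := hla.symm ▸ i.2
  have hr := ha _ (List.getElem_mem hi)
  have hsmall : ∀ x, x < 12 → comb A[(i : ℕ)] B 0 x < 2 ^ 10 := fun x _ => by
    have := comb_le hr B 0 x (by omega)
    rw [hlb] at this
    omega
  rw [Matrix.mul_apply]
  simp only [toMat, mulC]
  rw [List.getD_eq_getElem _ _ (by rw [List.length_map]; exact hi), List.getElem_map,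
    List.getD_eq_getElem _ _ hi, mulRow, forceNat_eq, getW_reduce _ j.2, accum_eq _ B 0 hb,
    getW_packW hsmall j.2, ZMod.natCast_mod, comb_cast, hlb,
    Finset.sum_range (f := fun k => (getW 10 A[(i : ℕ)] (0 + k) : ZMod 7) * (getW 10 (B.getD k 0) j : ZMod 7))]
  simp

theorem toMat_scalC (c : ℕ) : toMat (scalC c) = (c : ZMod 7) • 1 := by
  ext i j
  have hb : ∀ x, x < 12 → (if Nat.beq (i : ℕ) x then c % 7 else 0) < 2 ^ 10 := fun x _ => by
    split_ifs <;> omega
  simp only [toMat, scalC]
  rw [List.getD_eq_getElem _ _ (by simp), List.getElem_map, List.getElem_range, getW_packW hb j.2,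
    Matrix.smul_apply, Matrix.one_apply]
  by_cases h : i = j
  · subst h; simp
  · have hne : Nat.beq (i : ℕ) (j : ℕ) = false := by
      rw [Bool.eq_false_iff]
      exact fun he => h (Fin.ext (Nat.eq_of_beq_eq_true he))
    simp [h, hne]

theorem ok_scalC (c : ℕ) : ok (scalC c) = true := by
  simp only [ok, scalC, List.length_map, List.length_range, Nat.beq_refl, Bool.true_and,
    List.all_eq_true, List.mem_map, List.mem_range, forall_exists_index, and_imp,
    forall_apply_eq_imp_iff₂, Nat.beq_eq]
  intro i hi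
  refine packW_congr _ _ 12 fun j hj => ?_
  show getW 10 _ j % 7 = _
  rw [getW_packW (fun x _ => by split_ifs <;> omega) hj]
  split_ifs <;> simp

theorem toMat_inj {A B : List ℕ} (hA : ok A = true) (hB : ok B = true) (h : toMat A = toMat B) :
    A = B := by
  obtain ⟨hla, ha⟩ := ok_spec hA
  obtain ⟨hlb, hb⟩ := ok_spec hB
  refine List.ext_getElem (hla.trans hlb.symm) fun i h1 h2 => ?_
  rw [eq_packW (ha _ (List.getElem_mem h1)), eq_packW (hb _ (List.getElem_mem h2))]
  refine packW_congr _ _ 12 fun j hj => ?_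
  have e := congrFun (congrFun h ⟨i, hla ▸ h1⟩) ⟨j, hj⟩
  simp only [toMat] at e
  rw [List.getD_eq_getElem _ _ h1, List.getD_eq_getElem _ _ h2, ZMod.natCast_eq_natCast_iff'] at e
  exact e

theorem toVec_applyC {A v : List ℕ} (hA : ok A = true) :
    toVec (applyC A v) = (toMat A).mulVec (toVec v) := by
  obtain ⟨hla, -⟩ := ok_spec hA
  funext i
  have hi : (i : ℕ) < A.length := hla.symm ▸ i.2
  simp only [toVec, applyC, toMat, Matrix.mulVec, dotProduct]
  rw [List.getD_eq_getElem _ _ (by rw [List.length_map]; exact hi), List.getElem_map,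
    List.getD_eq_getElem _ _ hi, ZMod.natCast_mod, Nat.cast_list_sum, List.map_map,
    ← List.sum_toFinset _ List.nodup_range, List.toFinset_range, Finset.sum_range]
  simp

theorem toVec_inj {v w : List ℕ} (hv : v.length = 12) (hw : w.length = 12) (hv7 : ∀ x ∈ v, x < 7)
    (hw7 : ∀ x ∈ w, x < 7) (h : toVec v = toVec w) : v = w := by
  refine List.ext_getElem (hv.trans hw.symm) fun i h1 h2 => ?_
  have e := congrFun h ⟨i, hv ▸ h1⟩
  simp only [toVec] at e
  rw [List.getD_eq_getElem _ _ h1, List.getD_eq_getElem _ _ h2, ZMod.natCast_eq_natCast_iff',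
    Nat.mod_eq_of_lt (hv7 _ (List.getElem_mem h1)), Nat.mod_eq_of_lt (hw7 _ (List.getElem_mem h2))] at e
  exact e

end Cfsg.Agent.Lib.SuzMult.Code
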