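import Cfsg.Agent.Lib.SuzMult.Rels
import Cfsg.Agent.Lib.Schur.PermMult

/-!
# The Schur multiplier of the Suzuki group is cyclic of order six

`6.Suz` inside `GL(12, 7)` has trivial multiplier and is a stem extension of the presented group.
-/

set_option autoImplicit false
set_option maxRecDepth 20000

namespace Cfsg.Agent.Lib.SuzMult

open Cfsg Cfsg.Agent.Lib.SuzMult.Code
open Cfsg.Agent.Lib.Schur (Fusion.KillsPart)
open scoped commutatorElement

theorem trivial_H : HasCyclicSchurMultiplier H 1 := by
  refine Cfsg.Agent.Lib.Schur.Fusion.hasTrivialMultiplier fun p hp hd => ?_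
  rw [card_H] at hd
  have hd' : p ∣ 2 ^ 14 * 3 ^ 8 * 5 ^ 2 * 7 * 11 * 13 := hd.trans (by norm_num)
  simp only [hp.dvd_mul] at hd'
  rcases hd' with ((((h | h) | h) | h) | h) | h
  · obtain rfl := (Nat.prime_dvd_prime_iff_eq hp Nat.prime_two).1 (hp.dvd_of_dvd_pow h)
    exact Cert.exists_part prog prog_ok two Nat.prime_two _ two_cert two_rels two_sep two_conjs
      (by rw [show Nat.card ↥(prog.grp prog_ok) = _ from card_H]; decide +kernel)
  · obtain rfl := (Nat.prime_dvd_prime_iff_eq hp Nat.prime_three).1 (hp.dvd_of_dvd_pow h)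
    exact Cert.exists_part prog prog_ok three Nat.prime_three _ three_cert three_rels three_sep three_conjs
      (by rw [show Nat.card ↥(prog.grp prog_ok) = _ from card_H]; decide +kernel)
  · obtain rfl := (Nat.prime_dvd_prime_iff_eq hp Nat.prime_five).1 (hp.dvd_of_dvd_pow h)
    exact Cert.exists_part prog prog_ok five Nat.prime_five _ five_cert five_rels five_sep five_conjs
      (by rw [show Nat.card ↥(prog.grp prog_ok) = _ from card_H]; decide +kernel)
  · obtain rfl := (Nat.prime_dvd_prime_iff_eq hp (by norm_num)).1 h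
    exact Cert.exists_cyclic prog prog_ok hp seven_ok
      (by rw [show Nat.card ↥(prog.grp prog_ok) = _ from card_H]; norm_num)
  · obtain rfl := (Nat.prime_dvd_prime_iff_eq hp (by norm_num)).1 h
    exact Cert.exists_cyclic prog prog_ok hp eleven_ok
      (by rw [show Nat.card ↥(prog.grp prog_ok) = _ from card_H]; norm_num)
  · obtain rfl := (Nat.prime_dvd_prime_iff_eq hp (by norm_num)).1 h
    exact Cert.exists_cyclic prog prog_ok hp thirteen_ok
      (by rw [show Nat.card ↥(prog.grp prog_ok) = _ from card_H]; norm_num)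

theorem wit_check : ([0, 2].all fun k =>
    Nat.blt (witIx.getD k 0) prog.size && Nat.blt (witIx.getD (k + 1) 0) prog.size &&
      mulC (prog.get (witIx.getD k 0)) (prog.get (witIx.getD (k + 1) 0)) ==
        mulC (scalC (if k == 0 then 2 else 6))
          (mulC (prog.get (witIx.getD (k + 1) 0)) (prog.get (witIx.getD k 0)))) = true := by
  decide +kernel

attribute [local irreducible] mulC scalC Cert.Prog.get

theorem scalarH_mem_commutator {k : ℕ} (hk : k ∈ [0, 2]) (u : (ZMod 7)ˣ)
    (hu : (u : ZMod 7).val = if k == 0 then 2 else 6) : scalarH u ∈ commutator H := by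
  have h := List.all_eq_true.1 wit_check k hk
  simp only [Bool.and_eq_true, Nat.blt_eq, beq_iff_eq] at h
  obtain ⟨⟨ha, hb⟩, he⟩ := h
  obtain ⟨x, hx, hxc⟩ := Cert.node_spec prog prog_ok _ ha
  obtain ⟨y, hy, hyc⟩ := Cert.node_spec prog prog_ok _ hb
  have hs := has_scalarHom u
  rw [hu] at hs
  simp only [beq_iff_eq] at hs
  have e : ⁅(⟨x, hx⟩ : H), ⟨y, hy⟩⁆ = scalarH u := by
    rw [commutatorElement_def, mul_inv_eq_iff_eq_mul, mul_inv_eq_iff_eq_mul, mul_assoc]
    exact Subtype.ext ((hxc.mul hyc).eq (he ▸ hs.mul (hyc.mul hxc)))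
  rw [← e]
  exact Subgroup.commutator_mem_commutator (Subgroup.mem_top _) (Subgroup.mem_top _)

theorem units_gen : ∀ u : (ZMod 7)ˣ, ∃ a < 3, ∃ b < 2,
    u = ZMod.unitOfCoprime 2 (by norm_num) ^ a * ZMod.unitOfCoprime 6 (by norm_num) ^ b := by
  decide +kernel

theorem K_le_commutator : K ≤ commutator H := by
  rintro _ ⟨u, rfl⟩
  obtain ⟨a, -, b, -, rfl⟩ := units_gen u
  rw [map_mul, map_pow, map_pow]
  exact mul_mem (pow_mem (scalarH_mem_commutator (k := 0) (by simp) _ (by decide +kernel)) a)
    (pow_mem (scalarH_mem_commutator (k := 2) (by simp) _ (by decide +kernel)) b)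

/-- The multiplier of the Suzuki group is cyclic of order six. -/
theorem hasCyclicSchurMultiplier_Suz : HasCyclicSchurMultiplier Spor.Suz 6 := by
  obtain ⟨φ⟩ := exists_equiv
  let σ : H →* Spor.Suz := φ.symm.toMonoidHom.comp (QuotientGroup.mk' K)
  have hker : σ.ker = K := by
    ext x
    simp [σ]
  have hcard : Nat.card σ.ker = 6 := by rw [hker, card_K]
  have : IsCyclic K := isCyclic_of_surjective scalarH.rangeRestrict scalarH.rangeRestrict_surjective
  have : IsCyclic σ.ker := by rw [hker]; infer_instance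
  exact Cfsg.Agent.Lib.Schur.PermMult.hasSchurMultiplier_of_cover σ
    ⟨φ.symm.surjective.comp (QuotientGroup.mk'_surjective K), hker.le.trans K_le_center,
      hker.le.trans K_le_commutator⟩ trivial_H
    (mulEquivOfCyclicCardEq (by rw [hcard, Nat.card_congr Multiplicative.toAdd, Nat.card_zmod]))

end Cfsg.Agent.Lib.SuzMult
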