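import Cfsg.Agent.Lib.SuzMult.Checks
import Cfsg.Agent.S1694

/-!
# The map from the presented Suzuki group onto the central quotient of the matrix group

The presenting relations hold up to scalars; since the presented group is simple, the map is an isomorphism.
-/

set_option autoImplicit false
set_option maxRecDepth 20000

namespace Cfsg.Agent.Lib.SuzMult

open Cfsg Cfsg.Agent.Lib.SuzMult.Code

instance : Fact (Nat.Prime 7) := ⟨by norm_num⟩

/-- `6.Suz`. -/
noncomputable abbrev H : Subgroup Cert.GL12 := prog.grp prog_ok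

/-- The scalar matrices. -/
noncomputable def scalarHom : (ZMod 7)ˣ →* Cert.GL12 :=
  Units.map (Matrix.scalar (Fin 12) : ZMod 7 →+* Mat).toMonoidHom

theorem val_scalarHom (u : (ZMod 7)ˣ) : (scalarHom u : Mat) = (u : ZMod 7) • 1 := by
  rw [Matrix.smul_one_eq_diagonal]
  rfl

theorem has_scalarHom (u : (ZMod 7)ˣ) : Cert.Has (scalarHom u) (scalC (u : ZMod 7).val) :=
  ⟨ok_scalC _, by rw [val_scalarHom, toMat_scalC, ZMod.natCast_val, ZMod.cast_id', id]⟩

theorem scalarHom_injective : Function.Injective scalarHom := by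
  intro u v h
  have e := congrArg (fun x : Cert.GL12 => (x : Mat) 0 0) h
  simp only [val_scalarHom, Matrix.smul_apply, Matrix.one_apply_eq, smul_eq_mul, mul_one] at e
  exact Units.ext e

theorem scalarHom_comm (u : (ZMod 7)ˣ) (x : Cert.GL12) : x * scalarHom u = scalarHom u * x := by
  refine Units.ext ?_
  rw [Units.val_mul, Units.val_mul, val_scalarHom, mul_smul_comm, smul_mul_assoc, mul_one, one_mul]

theorem scal_check : ((List.range 6).all fun c =>
    Nat.blt (scalIx.getD c 0) prog.size && (prog.get (scalIx.getD c 0) == scalC (c + 1))) = true := by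
  decide +kernel

theorem scalarHom_mem (u : (ZMod 7)ˣ) : scalarHom u ∈ H := by
  have hpos : 1 ≤ (u : ZMod 7).val := by
    rcases Nat.eq_zero_or_pos (u : ZMod 7).val with h | h
    · exact absurd ((ZMod.val_eq_zero _).1 h) u.ne_zero
    · exact h
  have hlt : (u : ZMod 7).val < 7 := ZMod.val_lt _
  have h := List.all_eq_true.1 scal_check ((u : ZMod 7).val - 1) (List.mem_range.2 (by omega))
  rw [Bool.and_eq_true, Nat.blt_eq, beq_iff_eq, Nat.sub_add_cancel hpos] at h
  obtain ⟨x, hx, hc⟩ := Cert.node_spec prog prog_ok _ h.1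
  rwa [(has_scalarHom u).eq (h.2 ▸ hc)]

/-- The scalars inside `6.Suz`. -/
noncomputable def scalarH : (ZMod 7)ˣ →* H where
  toFun u := ⟨scalarHom u, scalarHom_mem u⟩
  map_one' := Subtype.ext scalarHom.map_one
  map_mul' u v := Subtype.ext (scalarHom.map_mul u v)

theorem scalarH_injective : Function.Injective scalarH := fun _ _ h =>
  scalarHom_injective (congrArg Subtype.val h)

/-- The kernel of the cover. -/
noncomputable def K : Subgroup H := scalarH.range

instance : Finite H := inferInstance

instance K_normal : K.Normal := ⟨fun z hz g => by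
  obtain ⟨u, rfl⟩ := hz
  have e : g * scalarH u = scalarH u * g := Subtype.ext (scalarHom_comm u g)
  exact ⟨u, by rw [e, mul_inv_cancel_right]⟩⟩

theorem K_le_center : K ≤ Subgroup.center H := by
  rintro _ ⟨u, rfl⟩
  exact Subgroup.mem_center_iff.2 fun g => Subtype.ext (scalarHom_comm u g)

theorem card_K : Nat.card K = 6 := by
  have h : Nat.card (scalarH.range : Subgroup H) = Nat.card (ZMod 7)ˣ :=
    (Nat.card_congr (MonoidHom.ofInjective scalarH_injective).toEquiv).symm
  rw [show Nat.card K = _ from h, Nat.card_eq_fintype_card]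
  rfl

/-- The index of a generator of the presented group. -/
def idx : Spor.Suz.Gen → Fin prog.gens.length
  | .a => ⟨0, by decide⟩
  | .b => ⟨1, by decide⟩
  | .c => ⟨2, by decide⟩
  | .d => ⟨3, by decide⟩
  | .e => ⟨4, by decide⟩
  | .f => ⟨5, by decide⟩
  | .g => ⟨6, by decide⟩

/-- The image of a generator. -/
noncomputable def img (x : Spor.Suz.Gen) : H ⧸ K :=
  QuotientGroup.mk' K ⟨prog.gen prog_ok (idx x), Cert.gen_mem prog prog_ok _⟩

/-- The code of a word in the generators. -/
def gword (l : List Spor.Suz.Gen) : List ℕ :=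
  l.foldr (fun x a => mulC (prog.gens.getD (idx x) ([], [])).1 a) (scalC 1)

/-- Two words agree up to a scalar. -/
def sameOk (u v : List Spor.Suz.Gen) : Bool :=
  (List.range 6).any fun c => gword u == mulC (scalC (c + 1)) (gword v)

theorem has_gword : ∀ l : List Spor.Suz.Gen, ∃ x : H, Cert.Has x (gword l) ∧
    QuotientGroup.mk' K x = (l.map img).prod
  | [] => ⟨1, Cert.has_one, map_one _⟩
  | s :: l => by
    obtain ⟨x, hx, he⟩ := has_gword l
    refine ⟨⟨prog.gen prog_ok (idx s), Cert.gen_mem prog prog_ok _⟩ * x, ?_, ?_⟩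
    · rw [Subgroup.coe_mul, gword, List.foldr_cons, List.getD_eq_getElem _ _ (idx s).2]
      exact (Cert.has_gen prog prog_ok (idx s)).mul hx
    · rw [map_mul, he, List.map_cons, List.prod_cons]
      rfl

theorem prod_eq_of_sameOk {u v : List Spor.Suz.Gen} (h : sameOk u v = true) :
    (u.map img).prod = (v.map img).prod := by
  simp only [sameOk, List.any_eq_true, List.mem_range, beq_iff_eq] at h
  obtain ⟨c, hc, he⟩ := h
  obtain ⟨x, hx, hxp⟩ := has_gword u
  obtain ⟨y, hy, hyp⟩ := has_gword v
  have hne : ((c + 1 : ℕ) : ZMod 7) ≠ 0 := by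
    rw [ne_eq, ZMod.natCast_eq_zero_iff]
    omega
  have hfld : IsUnit ((c + 1 : ℕ) : ZMod 7) := by
    exact isUnit_iff_ne_zero.2 hne
  have hs : Cert.Has (scalarHom hfld.unit) (scalC (c + 1)) := by
    have := has_scalarHom hfld.unit
    rwa [IsUnit.unit_spec, ZMod.val_natCast, Nat.mod_eq_of_lt (by omega)] at this
  have e : x = scalarH hfld.unit * y := Subtype.ext (hx.eq (he ▸ hs.mul hy))
  rw [← hxp, ← hyp, e, map_mul, show QuotientGroup.mk' K (scalarH hfld.unit) = 1 from
    (QuotientGroup.eq_one_iff _).2 ⟨_, rfl⟩, one_mul]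

theorem cox_check : ((Spor.coxNodes Spor.Suz.edges).all fun x => (Spor.coxNodes Spor.Suz.edges).all fun y =>
    sameOk (List.replicate (Spor.coxLabel Spor.Suz.edges x y) [x, y]).flatten []) = true := by
  decide +kernel

theorem extra_check : (sameOk [.a] (List.replicate 4 [Spor.Suz.Gen.c, .d]).flatten &&
    sameOk [.a] (List.replicate 2 [Spor.Suz.Gen.f, .g]).flatten &&
    sameOk (List.replicate 5 [Spor.Suz.Gen.a, .b, .c, .f]).flatten [] &&
    sameOk (List.replicate 5 [Spor.Suz.Gen.b, .f, .g]).flatten [] &&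
    sameOk (List.replicate 3 ((List.replicate 5 [Spor.Suz.Gen.b, .c, .d, .c, .d]).flatten ++ [.e])).flatten []) =
      true := by
  decide +kernel

theorem prod_replicate (n : ℕ) (l : List Spor.Suz.Gen) :
    ((List.replicate n l).flatten.map img).prod = (l.map img).prod ^ n := by
  rw [List.map_flatten, List.prod_flatten, List.map_replicate, List.map_replicate, List.prod_replicate]

theorem rels_ok : ∀ r ∈ Spor.coxRelators Spor.Suz.edges ∪ {r | r ∈ Spor.Suz.extra},
    FreeGroup.lift img r = 1 := by
  rintro r (⟨x, hx, y, hy, rfl⟩ | hr)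
  · have h := prod_eq_of_sameOk (List.all_eq_true.1 (List.all_eq_true.1 cox_check x hx) y hy)
    rw [prod_replicate] at h
    simpa using h
  · have h := extra_check
    simp only [Bool.and_eq_true] at h
    obtain ⟨⟨⟨⟨h1, h2⟩, h3⟩, h4⟩, h5⟩ := h
    have e1 := prod_eq_of_sameOk h1
    have e2 := prod_eq_of_sameOk h2
    have e3 := prod_eq_of_sameOk h3
    have e4 := prod_eq_of_sameOk h4
    have e5 := prod_eq_of_sameOk h5
    rw [prod_replicate] at e1 e2 e3 e4 e5
    rw [List.map_append, List.prod_append, prod_replicate] at e5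
    simp only [Set.mem_setOf_eq, Spor.Suz.extra, List.mem_cons, List.not_mem_nil, or_false] at hr
    rcases hr with rfl | rfl | rfl | rfl | rfl
    · simpa [mul_inv_eq_one, mul_assoc] using e1
    · simpa [mul_inv_eq_one, mul_assoc] using e2
    · simpa [mul_assoc] using e3
    · simpa [mul_assoc] using e4
    · simpa [mul_assoc] using e5

theorem gen_check : ((List.range 6).all fun c => !(gword [Spor.Suz.Gen.b] == scalC (c + 1))) = true := by
  decide +kernel

/-- The presented group is the quotient of the matrix group by the scalars. -/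
theorem exists_equiv : Nonempty (Spor.Suz ≃* H ⧸ K) := by
  obtain ⟨hsimple, hord⟩ := Cfsg.Agent.S1694.result
  let φ : Spor.Suz →* H ⧸ K := PresentedGroup.toGroup rels_ok
  have hφ : ∀ x, φ (PresentedGroup.of x) = img x := fun x => PresentedGroup.toGroup.of rels_ok
  have hsurj : Function.Surjective φ := by
    intro z
    obtain ⟨⟨x, hx⟩, rfl⟩ := QuotientGroup.mk'_surjective K z
    induction hx using Subgroup.closure_induction with
    | mem y hy =>
      obtain ⟨i, rfl⟩ := hy
      obtain ⟨s, rfl⟩ : ∃ s, idx s = i := by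
        obtain ⟨i, hi⟩ := i
        have h7 : prog.gens.length = 7 := by decide +kernel
        rw [h7] at hi
        interval_cases i
        exacts [⟨.a, rfl⟩, ⟨.b, rfl⟩, ⟨.c, rfl⟩, ⟨.d, rfl⟩, ⟨.e, rfl⟩, ⟨.f, rfl⟩, ⟨.g, rfl⟩]
      exact ⟨_, hφ s⟩
    | one => exact ⟨1, by rw [map_one]; rfl⟩
    | mul a b _ _ ha hb =>
      obtain ⟨u, hu⟩ := ha
      obtain ⟨v, hv⟩ := hb
      exact ⟨u * v, by rw [map_mul, hu, hv]; rfl⟩
    | inv a _ ha =>
      obtain ⟨u, hu⟩ := ha
      exact ⟨u⁻¹, by rw [map_inv, hu]; rfl⟩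
  have hinj : Function.Injective φ := by
    rw [← MonoidHom.ker_eq_bot_iff]
    rcases φ.normal_ker.eq_bot_or_eq_top with h | h
    · exact h
    · exfalso
      have h1 : img .b = 1 := by
        rw [← hφ]
        exact (MonoidHom.mem_ker).1 (h.ge (Subgroup.mem_top _))
      obtain ⟨u, hu⟩ := (QuotientGroup.eq_one_iff _).1 h1
      have hb := Cert.has_gen prog prog_ok (idx .b)
      have hu' : Cert.Has (prog.gen prog_ok (idx .b)) (scalC ((u : ZMod 7).val)) :=
        by
          have e : scalarHom u = prog.gen prog_ok (idx .b) := congrArg Subtype.val hu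
          rw [← e]
          exact has_scalarHom u
      have hcode := hb.code_eq hu'
      have hpos : 1 ≤ (u : ZMod 7).val := by
        rcases Nat.eq_zero_or_pos (u : ZMod 7).val with h | h
        · exact absurd ((ZMod.val_eq_zero _).1 h) u.ne_zero
        · exact h
      have hlt : (u : ZMod 7).val < 7 := ZMod.val_lt _
      have hg := List.all_eq_true.1 gen_check ((u : ZMod 7).val - 1) (List.mem_range.2 (by omega))
      rw [Nat.sub_add_cancel hpos, Bool.not_eq_true', beq_eq_false_iff_ne] at hg
      have hgb : gword [Spor.Suz.Gen.b] = mulC (prog.gens[idx .b]).1 (scalC 1) := by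
        rw [gword, List.foldr_cons, List.foldr_nil, List.getD_eq_getElem _ _ (idx _).2]
        rfl
      refine hg ?_
      rw [hgb, ← hcode]
      refine (hb.mul Cert.has_one).code_eq ?_
      rw [mul_one]
      exact hb
  exact ⟨MulEquiv.ofBijective φ ⟨hinj, hsurj⟩⟩

theorem card_H : Nat.card H = 2690072985600 := by
  obtain ⟨e⟩ := exists_equiv
  rw [Subgroup.card_eq_card_quotient_mul_card_subgroup K, card_K, ← Nat.card_congr e.toEquiv,
    Cfsg.Agent.S1694.result.2]

end Cfsg.Agent.Lib.SuzMult
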